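import Groth.Agent.S1627
import Groth.Agent.SmoothDim.Basic
import Groth.Agent.Synt29.SmoothDim
import Mathlib

/-!
# Finite sets of points on proper integral curves; smooth curves have relative dimension one
-/

set_option autoImplicit false
set_option backward.isDefEq.respectTransparency false
set_option backward.isDefEq.respectTransparency.types false
set_option linter.style.haveILetI false

universe u

open CategoryTheory CategoryTheory.Limits AlgebraicGeometry TopologicalSpace

namespace Groth.Agent.HilbCurve

theorem topologicalKrullDim_nonpos (Y : Type*) [TopologicalSpace Y] [Subsingleton Y] : topologicalKrullDim Y ≤ 0 := by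
  haveI : Subsingleton (IrreducibleCloseds Y) := ⟨fun a b => IrreducibleCloseds.ext (Set.ext fun y => by
    constructor
    · intro _; obtain ⟨z, hz⟩ := b.isIrreducible.nonempty; exact Subsingleton.elim z y ▸ hz
    · intro _; obtain ⟨z, hz⟩ := a.isIrreducible.nonempty; exact Subsingleton.elim z y ▸ hz)⟩
  exact Order.krullDim_nonpos_of_subsingleton

variable {k : Type u} [Field k] {X : Scheme.{u}} (f : X ⟶ Spec (CommRingCat.of k))
  [LocallyOfFiniteType f] [IsIntegral X]

include f in
theorem closedPoints_infinite (hdim : topologicalKrullDim X = 1) : (closedPoints X).Infinite := by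
  haveI : JacobsonSpace X := LocallyOfFiniteType.jacobsonSpace f
  intro hfin
  have hcl : IsClosed (closedPoints X) := by
    rw [← Set.biUnion_of_singleton (closedPoints X)]
    exact hfin.isClosed_biUnion fun x hx => hx
  have huniv : closedPoints X = Set.univ := hcl.closure_eq.symm.trans closure_closedPoints
  haveI : Subsingleton (X : Type u) := ⟨fun x y => by
    have h : ∀ z : X, z = genericPoint X := by
      have hg : IsClosed ({genericPoint X} : Set X) := (huniv ▸ Set.mem_univ _ : genericPoint X ∈ closedPoints X)
      intro z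
      exact Set.mem_singleton_iff.1 (((genericPoint_spec X).specializes (Set.mem_univ z)).mem_closed hg rfl)
    rw [h x, h y]⟩
  have : topologicalKrullDim X ≤ 0 := topologicalKrullDim_nonpos X
  rw [hdim] at this
  norm_num at this

include f in
/-- A nonempty open subscheme of an integral curve has dimension one. -/
theorem dim_opens (hdim : topologicalKrullDim X = 1) (V : X.Opens) (hV : (V : Set X).Nonempty) :
    topologicalKrullDim V = 1 := by
  haveI : JacobsonSpace X := LocallyOfFiniteType.jacobsonSpace f
  refine le_antisymm ((Topology.IsInducing.subtypeVal.topologicalKrullDim_le).trans hdim.le) ?_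
  obtain ⟨q, hqV, hq⟩ := nonempty_inter_closedPoints hV V.2.isLocallyClosed
  have hη : genericPoint X ∈ V := ((genericPoint_spec X).mem_open_set_iff V.2).2 (by simpa using hV)
  have hne : q ≠ genericPoint X := fun e => by
    haveI : Subsingleton (X : Type u) := ⟨fun x y => by
      have h : ∀ z : X, z = q := fun z => Set.mem_singleton_iff.1
        ((genericPoint_spec X).specializes (Set.mem_univ z) |>.mem_closed hq (Set.mem_singleton_iff.2 e.symm))
      rw [h x, h y]⟩
    have : topologicalKrullDim X ≤ 0 := topologicalKrullDim_nonpos X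
    rw [hdim] at this
    norm_num at this
  let c₀ : IrreducibleCloseds V := ⟨{⟨q, hqV⟩}, isIrreducible_singleton, by
    rw [show ({⟨q, hqV⟩} : Set V) = Subtype.val ⁻¹' {q} from Set.ext fun z => ⟨fun h => congrArg Subtype.val h, fun h => Subtype.ext h⟩]
    exact hq.preimage continuous_subtype_val⟩
  haveI : IrreducibleSpace (V : Type u) := by
    refine Subtype.irreducibleSpace ?_
    exact (IrreducibleSpace.isIrreducible_univ X).isPreirreducible.open_subset V.2 (Set.subset_univ _) |> fun h => ⟨hV, h⟩
  let c₁ : IrreducibleCloseds V := ⟨Set.univ, IrreducibleSpace.isIrreducible_univ _, isClosed_univ⟩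
  have hlt : c₀ < c₁ := lt_of_le_of_ne (show c₀.carrier ⊆ c₁.carrier from Set.subset_univ _) fun e => hne (by
    have h : (⟨genericPoint X, hη⟩ : V) ∈ c₁.carrier := Set.mem_univ _
    rw [← e] at h
    exact (congrArg Subtype.val (Set.mem_singleton_iff.1 h)).symm)
  have := Order.LTSeries.length_le_krullDim ((RelSeries.singleton _ c₀).snoc c₁ (by simpa using hlt))
  exact le_trans (by norm_num) this

include f in
/-- Finitely many points of a proper integral curve lie in a common affine open. -/
theorem exists_affineOpen [IsProper f] (hdim : topologicalKrullDim X = 1) {T : Set X} (hT : T.Finite) :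
    ∃ U : X.Opens, IsAffineOpen U ∧ T ⊆ U := by
  haveI : JacobsonSpace X := LocallyOfFiniteType.jacobsonSpace f
  obtain ⟨p, hp, hpT⟩ := (closedPoints_infinite f hdim).exists_notMem_finset hT.toFinset
  let U : X.Opens := ⟨({p} : Set X)ᶜ, (hp : IsClosed ({p} : Set X)).isOpen_compl⟩
  have hne : (U : Set X).Nonempty := by
    obtain ⟨q, -, hq⟩ := (closedPoints_infinite f hdim).exists_notMem_finset {p}
    exact ⟨q, by simpa [U] using hq⟩
  haveI : Nonempty (U : Scheme.{u}) := ⟨⟨hne.some, hne.some_mem⟩⟩
  haveI : IsIntegral (U : Scheme.{u}) := inferInstance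
  haveI : CompactSpace X := QuasiCompact.compactSpace_of_compactSpace f
  haveI : IsLocallyNoetherian X := LocallyOfFiniteType.isLocallyNoetherian f
  haveI : IsNoetherian X := {}
  letI : (U : Scheme.{u}).Over (Spec (CommRingCat.of k)) := ⟨U.ι ≫ f⟩
  haveI : IsSeparated ((U : Scheme.{u}) ↘ Spec (CommRingCat.of k)) := inferInstanceAs (IsSeparated (U.ι ≫ f))
  haveI : LocallyOfFiniteType ((U : Scheme.{u}) ↘ Spec (CommRingCat.of k)) :=
    inferInstanceAs (LocallyOfFiniteType (U.ι ≫ f))
  haveI : QuasiCompact ((U : Scheme.{u}) ↘ Spec (CommRingCat.of k)) :=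
    inferInstanceAs (QuasiCompact (U.ι ≫ f))
  refine ⟨U, ?_, fun t ht e => hpT (by rw [Set.Finite.mem_toFinset]; exact (Set.mem_singleton_iff.1 e) ▸ ht)⟩
  rcases Groth.Agent.S1627.result k (U : Scheme.{u}) (dim_opens f hdim U hne) with h | ⟨d, c, hc, hfac⟩
  · exact h
  exfalso
  haveI := hc
  haveI : IsProper (CohB1.ProjSpace.toSpec d k) := PnCoh.Chow.isProper_toSpec d k
  haveI : IsProper (U.ι ≫ f) := by
    rw [show U.ι ≫ f = c ≫ CohB1.ProjSpace.toSpec d k from hfac.symm]; infer_instance
  haveI : IsProper U.ι := IsProper.of_comp U.ι f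
  have hcl : IsClosed (U : Set X) := by
    have := U.ι.isClosedMap.isClosed_range
    rwa [Scheme.Opens.range_ι] at this
  rcases isClopen_iff.1 ⟨hcl, U.2⟩ with h0 | h0
  · exact hne.ne_empty h0
  · exact (h0 ▸ Set.mem_univ p : p ∈ (U : Set X)) rfl

include f in
theorem smoothOfRelativeDimension_one [Smooth f] (hdim : topologicalKrullDim X = 1) :
    SmoothOfRelativeDimension 1 f := by
  choose U hU V hV e n hx hstd hsm hfd using fun x : X => Synt29.SmoothDim.exists_chart f x
  have hn : ∀ x, n x = 1 := fun x => by
    haveI : Nonempty (V x : Scheme.{u}) := ⟨⟨x, hx x⟩⟩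
    have hUtop : U x = ⊤ := by
      refine Opens.ext (Set.eq_univ_of_forall fun y => ?_)
      have : y = f x := Subsingleton.elim (α := PrimeSpectrum k) _ _
      rw [this]; exact e x (hx x)
    have h := hstd x
    generalize e x = e' at h
    revert e' h
    rw [hUtop]
    intro e' h
    let ε : k ≃+* Γ(Spec (CommRingCat.of k), ⊤) :=
      (Scheme.ΓSpecIso (CommRingCat.of k)).commRingCatIsoToRingEquiv.symm
    have h2 := RingHom.isStandardSmoothOfRelativeDimension_respectsIso.2 _ ε h
    algebraize [(f.appLE ⊤ (V x) e').hom.comp ε.toRingHom]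
    haveI : Nontrivial Γ(X, V x) := Scheme.component_nontrivial _ _
    have h3 := SmoothDim.ringKrullDim_eq k Γ(X, V x) (n x)
    rw [← PrimeSpectrum.topologicalKrullDim_eq_ringKrullDim,
      show topologicalKrullDim (PrimeSpectrum Γ(X, V x)) = topologicalKrullDim (V x) from
        (IsHomeomorph.topologicalKrullDim_eq _ (hV x).isoSpec.schemeIsoToHomeo.isHomeomorph).symm,
      dim_opens f hdim (V x) ⟨x, hx x⟩] at h3
    exact_mod_cast h3.symm
  rw [IsZariskiLocalAtSource.iff_of_iSup_eq_top (P := @SmoothOfRelativeDimension 1) (U := V)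
    (eq_top_iff.2 fun x _ => Opens.mem_iSup.2 ⟨x, hx x⟩)]
  intro x
  exact hn x ▸ hsm x

end Groth.Agent.HilbCurve
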