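import Groth.Agent.HilbCurve.Affine
import Groth.Agent.HilbDLib.SmoothCurve
import Groth.Agent.HilbPtsRep.Rep

/-!
# The Hilbert scheme of points of a smooth proper curve over a field is proper and smooth
-/

set_option autoImplicit false
set_option backward.isDefEq.respectTransparency false
set_option backward.isDefEq.respectTransparency.types false
set_option linter.style.haveILetI false

universe u

open CategoryTheory CategoryTheory.Limits AlgebraicGeometry

namespace Groth.Agent.HilbCurve

variable {k : Type u} [Field k] {X : Scheme.{u}} (f : X ⟶ Spec (CommRingCat.of k))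

theorem representable [IsProper f] [IsIntegral X] (hdim : topologicalKrullDim X = 1) (d : ℕ) :
    HilbD.Representable f d :=
  HilbPtsRep.representable fun _ x _ => by
    obtain ⟨U, hU, hT⟩ := exists_affineOpen f hdim (Set.finite_range x)
    exact ⟨U, hU, fun i => hT (Set.mem_range_self i)⟩

theorem proper_of_isUniversal {S : Scheme.{u}} (f : X ⟶ S) [SmoothOfRelativeDimension 1 f] [IsProper f]
    (hrep : ∀ e : ℕ, HilbD.Representable f e) (d : ℕ) :
    ∀ (H : Over S) (Z : HilbD.Obj f d H), HilbD.IsUniversal f d H Z → IsProper H.hom := by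
  induction d with
  | zero =>
    intro H Z hZ
    haveI := HilbDLib.isIso_of_isUniversal_zero f H Z hZ
    infer_instance
  | succ d ih =>
    intro H' Z' hZ'
    obtain ⟨H, Z, hZ⟩ := hrep d
    haveI : IsProper H.hom := ih H Z hZ
    obtain ⟨m, hm⟩ := HilbDLib.exists_addPoint f d H Z H' Z' hZ'
    haveI := HilbDLib.addPoint_surjective d m.left (HilbDLib.addPoint_deg f d H Z hZ H' Z' hZ' m hm)
    haveI : IsProper (m.left ≫ H'.hom) := by
      rw [Over.w m]
      exact inferInstanceAs (IsProper (pullback.fst H.hom f ≫ H.hom))
    haveI : IsSeparated H'.hom := HilbDLib.isSeparated_of_isUniversal f (d + 1) H' Z' hZ'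
    haveI : UniversallyClosed H'.hom := UniversallyClosed.of_comp_surjective m.left H'.hom
    haveI : Smooth H'.hom := HilbDLib.smooth_of_isUniversal f hrep (d + 1) H' Z' hZ'
    constructor

theorem exists_proper_smooth [IsProper f] [Smooth f] [IsIntegral X] (hdim : topologicalKrullDim X = 1) (d : ℕ) :
    ∃ (H : Over (Spec (CommRingCat.of k))) (Z : HilbD.Obj f d H),
      HilbD.IsUniversal f d H Z ∧ IsProper H.hom ∧ Smooth H.hom := by
  haveI := smoothOfRelativeDimension_one f hdim
  have hrep := representable f hdim
  obtain ⟨H, Z, hZ⟩ := hrep d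
  exact ⟨H, Z, hZ, proper_of_isUniversal f hrep d H Z hZ, HilbDLib.smooth_of_isUniversal f hrep d H Z hZ⟩

end Groth.Agent.HilbCurve
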